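import Cfsg.Agent.H997.Rg.Size
import Cfsg.Agent.H997.Rg.Lin

/-!
# The core of the residual case F-A of S3691: linear part (helper72)
-/

set_option autoImplicit false
set_option linter.unusedSectionVars false

namespace Cfsg.Agent.H72.Rl

open Subgroup Cfsg Cfsg.Agent.H997.Rg

theorem finV (F : Type) {V : Type} [Field F] [Finite F] [AddCommGroup V] [Module F V] [FiniteDimensional F V] :
    Finite V := Module.finite_of_finite F

theorem dvd_card_V (F : Type) {V : Type} [Field F] [Finite F] [AddCommGroup V] [Module F V] [FiniteDimensional F V]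
    [Nontrivial V] {p : ℕ} [CharP F p] (hp : p.Prime) : p ∣ Nat.card V := by
  have := Fact.mk hp
  have := Fintype.ofFinite F
  rw [Module.natCard_eq_pow_finrank (K := F) (V := V)]
  refine dvd_pow ?_ (Module.finrank_pos).ne'
  obtain ⟨k, hk, h⟩ := FiniteField.card F p
  rw [Nat.card_eq_fintype_card, h]
  exact dvd_pow_self p k.pos.ne'

section

variable {F V K : Type} [Field F] [Finite F] [AddCommGroup V] [Module F V] [FiniteDimensional F V] [Nontrivial V]
  [Group K] [Finite K] {p : ℕ} [CharP F p] {ρ : K →* Module.End F V}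

/-- a `p`-group has a nonzero fixed vector -/
theorem exists_fix (hp : p.Prime) (P : Subgroup K) (hP : IsPGroup p P) :
    ∃ v : V, v ≠ 0 ∧ ∀ g ∈ P, ρ g v = v := by
  have := Fact.mk hp
  have := finV F (V := V)
  let _ : MulAction P V := MulAction.compHom V (ρ.comp P.subtype)
  have hsm : ∀ (g : P) (v : V), g • v = ρ g v := fun g v => rfl
  obtain ⟨v, hv, hv0⟩ := hP.exists_fixed_point_of_prime_dvd_card_of_fixed_point V (dvd_card_V F hp) (a := 0)
    (fun g => by rw [hsm, map_zero])
  refine ⟨v, hv0.symm, fun g hg => ?_⟩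
  rw [← hsm ⟨g, hg⟩ v]
  exact hv ⟨g, hg⟩

/-- `y` acts irreducibly -/
theorem irr (h : Fpf p ρ) {y : K} {r : ℕ} (hr : r.Prime) (hrp : r ≠ p) (hy : orderOf y = r)
    (hord : ∀ k, r ∣ Nat.card F ^ k - 1 → Module.finrank F V ∣ k) (W : Submodule F V) (hW : ∀ w ∈ W, ρ y w ∈ W)
    (hW0 : W ≠ ⊥) : W = ⊤ := by
  classical
  have := Fact.mk hr
  have := finV F (V := V)
  have hyr : y ^ r = 1 := by rw [← hy]; exact pow_orderOf_eq_one y
  let f : Function.End W := fun w => ⟨ρ y w, hW w w.2⟩
  have hfk : ∀ k : ℕ, ∀ w : W, ((f ^ k) w : V) = ρ (y ^ k) w := by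
    intro k
    induction k with
    | zero => intro w; rw [pow_zero, pow_zero, map_one]; rfl
    | succ k ih =>
      intro w
      rw [pow_succ', pow_succ', map_mul]
      show ρ y ((f ^ k) w : V) = _
      rw [ih]
      rfl
  have hf : f ^ r ^ 1 = 1 := by
    funext w
    apply Subtype.ext
    rw [pow_one, hfk, hyr, map_one]
    rfl
  have := Fintype.ofFinite W
  have h1 := Equiv.Perm.card_fixedPoints_modEq hf
  have h2 : Fintype.card f.fixedPoints = 1 := by
    rw [Fintype.card_eq_one_iff]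
    refine ⟨⟨0, Subtype.ext (map_zero _)⟩, ?_⟩
    rintro ⟨w, hw⟩
    apply Subtype.ext
    apply Subtype.ext
    exact h y (by rw [hy]; exact hr) (by rw [hy]; exact hrp) _ (congrArg Subtype.val hw)
  rw [h2] at h1
  have hcW : Fintype.card W = Nat.card F ^ Module.finrank F W := by
    rw [← Nat.card_eq_fintype_card]
    exact Module.natCard_eq_pow_finrank
  have h3 : r ∣ Nat.card F ^ Module.finrank F W - 1 := by
    rw [← hcW]
    exact (Nat.modEq_iff_dvd' Fintype.card_pos).1 h1.symm
  have h4 := hord _ h3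
  have h5 : 0 < Module.finrank F W := by
    rw [Module.finrank_pos_iff]
    exact Submodule.nontrivial_iff_ne_bot.2 hW0
  exact Submodule.eq_top_of_finrank_eq (le_antisymm (Submodule.finrank_le W) (Nat.le_of_dvd h5 h4))

/-- the fixed space of a subgroup -/
def fixW (ρ : K →* Module.End F V) (P : Subgroup K) : Submodule F V where
  carrier := {v | ∀ g ∈ P, ρ g v = v}
  zero_mem' := fun g _ => map_zero _
  add_mem' := fun {a b} ha hb g hg => by rw [map_add, ha g hg, hb g hg]
  smul_mem' := fun c {v} hv g hg => by rw [map_smul, hv g hg]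

theorem pgroup_bot (hp : p.Prime) (hinj : Function.Injective ρ) (h : Fpf p ρ) {y : K} {r : ℕ} (hr : r.Prime)
    (hrp : r ≠ p) (hy : orderOf y = r) (hord : ∀ k, r ∣ Nat.card F ^ k - 1 → Module.finrank F V ∣ k)
    (P : Subgroup K) (hP : IsPGroup p P) (hyP : ∀ g ∈ P, y⁻¹ * g * y ∈ P) : P = ⊥ := by
  obtain ⟨v, hv0, hv⟩ := exists_fix (ρ := ρ) hp P hP
  have h1 : fixW ρ P = ⊤ := by
    refine irr h hr hrp hy hord _ ?_ ?_
    · intro w hw g hg
      have h2 := hw _ (hyP g hg)
      have h3 : ρ g (ρ y w) = ρ y (ρ (y⁻¹ * g * y) w) := by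
        rw [← Module.End.mul_apply, ← Module.End.mul_apply, ← map_mul, ← map_mul]
        congr 2
        group
      rw [h3, h2]
    · intro h0
      have : v ∈ fixW ρ P := hv
      rw [h0, Submodule.mem_bot] at this
      exact hv0 this
  rw [Subgroup.eq_bot_iff_forall]
  intro g hg
  apply hinj
  rw [map_one]
  refine LinearMap.ext fun w => ?_
  have h2 : w ∈ fixW ρ P := by rw [h1]; trivial
  exact h2 g hg

theorem not_dvd_cent (hp : p.Prime) (hinj : Function.Injective ρ) (h : Fpf p ρ) {y : K} {r : ℕ} (hr : r.Prime)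
    (hrp : r ≠ p) (hy : orderOf y = r) (hord : ∀ k, r ∣ Nat.card F ^ k - 1 → Module.finrank F V ∣ k) :
    ¬ p ∣ Nat.card (centralizer ({y} : Set K)) := by
  intro hd
  have := Fact.mk hp
  obtain ⟨⟨g, hg⟩, hgo⟩ := exists_prime_orderOf_dvd_card' p hd
  have hgo' : orderOf g = p := by
    rw [← hgo]
    exact (Subgroup.orderOf_coe (⟨g, hg⟩ : centralizer ({y} : Set K)))
  have hgy : g * y = y * g := mem_centralizer_singleton_iff.1 hg
  have hb := pgroup_bot hp hinj h hr hrp hy hord (zpowers g) (by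
    rw [IsPGroup.iff_card]
    exact ⟨1, by rw [Nat.card_zpowers, hgo', pow_one]⟩) (by
    intro x hx
    obtain ⟨k, rfl⟩ := mem_zpowers_iff.1 hx
    have : y⁻¹ * g ^ k * y = g ^ k := by
      have hc : Commute (g ^ k) y := (show Commute g y from hgy).zpow_left k
      rw [mul_assoc, hc.eq, inv_mul_cancel_left]
    rw [this]
    exact hx)
  rw [zpowers_eq_bot] at hb
  rw [hb, orderOf_one] at hgo'
  exact hp.one_lt.ne hgo'

/-- `|K|_{p'}` divides `q^n - 1` -/
theorem compl_dvd (hp : p.Prime) (h : Fpf p ρ) :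
    Nat.card K / p ^ (Nat.card K).factorization p ∣ Nat.card V - 1 := by
  classical
  have hfV := finV F (V := V)
  have hK0 : Nat.card K ≠ 0 := Nat.card_pos.ne'
  have hV1 : 1 < Nat.card V := Finite.one_lt_card
  rw [← Nat.factorization_prime_le_iff_dvd (Nat.ordCompl_pos p hK0).ne' (by omega)]
  intro s hs
  by_cases hsp : s = p
  · rw [hsp, Nat.factorization_eq_zero_of_not_dvd (Nat.not_dvd_ordCompl hp hK0)]
    exact Nat.zero_le _
  have h1 : (Nat.card K / p ^ (Nat.card K).factorization p).factorization s ≤ (Nat.card K).factorization s :=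
    (Nat.factorization_le_iff_dvd (Nat.ordCompl_pos p hK0).ne' hK0).2 (Nat.ordCompl_dvd _ _) s
  refine h1.trans ?_
  rw [← hs.pow_dvd_iff_le_factorization (by omega)]
  have := Fact.mk hs
  obtain ⟨S⟩ : Nonempty (Sylow s K) := inferInstance
  rw [← S.card_eq_multiplicity]
  -- the free action
  have hne : ∀ (g : K) (v : V), v ≠ 0 → ρ g v ≠ 0 := by
    intro g v hv h0
    apply hv
    have h2 : ρ g⁻¹ (ρ g v) = v := by
      rw [← Module.End.mul_apply, ← map_mul, inv_mul_cancel, map_one]
      rfl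
    rw [← h2, h0, map_zero]
  let _ : MulAction S {v : V // v ≠ 0} :=
    { smul := fun g v => ⟨ρ (g : K) v.1, hne _ _ v.2⟩
      one_smul := fun v => Subtype.ext (by
        show ρ ((1 : S) : K) v.1 = v.1
        rw [Subgroup.coe_one, map_one]
        rfl)
      mul_smul := fun a b v => Subtype.ext (by
        show ρ ((a * b : S) : K) v.1 = ρ (a : K) (ρ (b : K) v.1)
        rw [Subgroup.coe_mul, map_mul]
        rfl) }
  have hst : ∀ v : {v : V // v ≠ 0}, MulAction.stabilizer S v = ⊥ := by
    intro v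
    rw [Subgroup.eq_bot_iff_forall]
    intro g hg
    have hgv : ρ (g : K) v.1 = v.1 := congrArg Subtype.val hg
    by_contra hg1
    obtain ⟨k, hk⟩ := S.2 g
    -- a power of order `s`
    have hog : ∃ j : ℕ, orderOf (g : K) = s ^ (j + 1) := by
      have h3 : (g : K) ^ s ^ k = 1 := by
        have := congrArg Subtype.val hk
        exact this
      obtain ⟨j, -, hj⟩ := (Nat.dvd_prime_pow hs).1 (orderOf_dvd_of_pow_eq_one h3)
      rcases j with _ | j
      · exfalso
        rw [pow_zero, orderOf_eq_one_iff] at hj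
        exact hg1 (Subtype.ext hj)
      · exact ⟨j, hj⟩
    obtain ⟨j, hj⟩ := hog
    have h4 : orderOf ((g : K) ^ s ^ j) = s := by
      rw [orderOf_pow' _ (pow_pos hs.pos j).ne', hj, pow_succ, Nat.gcd_eq_right (dvd_mul_right _ _),
        Nat.mul_div_cancel_left s (pow_pos hs.pos j)]
    have h5 : ∀ i : ℕ, ρ ((g : K) ^ i) v.1 = v.1 := by
      intro i
      induction i with
      | zero => rw [pow_zero, map_one]; rfl
      | succ i ih => rw [pow_succ, map_mul, Module.End.mul_apply, hgv, ih]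
    exact v.2 (h _ (by rw [h4]; exact hs) (by rw [h4]; exact hsp) _ (h5 _))
  have h6 := Nat.card_congr (MulAction.selfEquivOrbitsQuotientProd (G := S) (X := {v : V // v ≠ 0}) hst)
  rw [Nat.card_prod] at h6
  have h7 : Nat.card {v : V // v ≠ 0} = Nat.card V - 1 := by
    have := Fintype.ofFinite V
    rw [Nat.card_eq_fintype_card, Fintype.card_subtype_compl, Fintype.card_subtype_eq, Nat.card_eq_fintype_card]
  rw [← h7, h6]
  exact dvd_mul_left _ _

/-- **the core** -/
theorem num_of (hJ : OutJ1.{0}) (hp : p.Prime) (hinj : Function.Injective ρ) (h : Fpf p ρ) {y : K} {r : ℕ}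
    (hr : r.Prime) (hr5 : 5 ≤ r) (hrp : r ≠ p) (hy : orderOf y = r)
    (hord : ∀ k, r ∣ Nat.card F ^ k - 1 ↔ Module.finrank F V ∣ k)
    (hv : (Nat.card K).factorization p < r) :
    Num p ((Nat.card K).factorization p) (Nat.card K / p ^ (Nat.card K).factorization p)
      ((Module.finrank F V).factorization p) := by
  have := Fact.mk hp
  have := Fact.mk hr
  have hord' : ∀ k, r ∣ Nat.card F ^ k - 1 → Module.finrank F V ∣ k := fun k => (hord k).1
  have hn0 : 0 < Module.finrank F V := Module.finrank_pos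
  refine core hJ hp hr hrp (by omega) (fun s hs hs2 hsp P => h.cyc hp hs hs2 hsp P) ?_ y hy ?_ hv ?_
  · by_cases hp2 : p = 2
    · exact Or.inl hp2
    · exact Or.inr fun a b hab ha hb => h.inv hp hp2 a b hab ha hb
  · refine h.fit hp hr hr5 hrp hy fun a ha => ?_
    have h1 : pCore p K = ⊥ := by
      refine pgroup_bot hp hinj h hr hrp hy hord' _ (Cfsg.Agent.Lib.Cores.pCore_isPGroup p) fun g hg => ?_
      have h2 := (Cfsg.Agent.Lib.Cores.pCore_normal (G := K) p).conj_mem g hg y⁻¹
      rwa [inv_inv] at h2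
    rw [h1, mem_bot] at ha
    rw [ha]
    exact Commute.one_right y
  · rw [card_nc]
    obtain ⟨D, hD0, hDn, hDy, hDq⟩ := h.nc_dvd hp hr hrp hy
    have hDo : orderOf ((Nat.card F : ℕ) : ZMod r) = Module.finrank F V := by
      have hq1 : ∀ k, 1 ≤ Nat.card F ^ k := fun k => Nat.one_le_pow _ _ Nat.card_pos
      have h3 : ∀ k, ((Nat.card F : ℕ) : ZMod r) ^ k = 1 ↔ r ∣ Nat.card F ^ k - 1 := by
        intro k
        rw [← Nat.cast_pow, ← Nat.cast_one, ZMod.natCast_eq_natCast_iff]
        constructor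
        · intro h4
          exact (Nat.modEq_iff_dvd' (hq1 k)).1 h4.symm
        · intro h4
          exact ((Nat.modEq_iff_dvd' (hq1 k)).2 h4).symm
      apply Nat.dvd_antisymm
      · apply orderOf_dvd_of_pow_eq_one
        rw [h3, hord]
      · rw [← hord, ← h3]
        exact pow_orderOf_eq_one _
    rw [hDo] at hDq
    have hDe : D = Module.finrank F V := le_antisymm hDn (Nat.le_of_dvd hD0 hDq)
    rw [hDe] at hDy
    have hC0 : Nat.card (centralizer ({y} : Set K)) ≠ 0 := Nat.card_pos.ne'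
    rw [Nat.factorization_mul hC0 (nc_pos y).ne', Finsupp.add_apply,
      Nat.factorization_eq_zero_of_not_dvd (not_dvd_cent hp hinj h hr hrp hy hord'), zero_add]
    exact (Nat.factorization_le_iff_dvd (nc_pos y).ne' hn0.ne').2 hDy p

end

end Cfsg.Agent.H72.Rl
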