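import Cfsg.Agent.H997.Rg.Size
import Cfsg.Agent.Lib.Zsigmondy

/-!
# Numbers for the residual case F-A of S3691 (helper72)
-/

set_option autoImplicit false

namespace Cfsg.Agent.H72.Rl

open Cfsg.Agent.H997.Rg



theorem two_size {f n : ℕ} (h : 3 * Nat.factorial 29 < (2 ^ f) ^ (n ^ 2)) : 105 ≤ f * n ^ 2 := by
  by_contra hcon
  have h1 : (2 ^ f) ^ (n ^ 2) ≤ 2 ^ 104 := by
    rw [← pow_mul]
    exact Nat.pow_le_pow_right two_pos (by omega)
  have h2 : 2 ^ 104 ≤ 3 * Nat.factorial 29 := by norm_num [Nat.factorial]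
  omega

theorem three_size {f n : ℕ} (h : 3 * Nat.factorial 29 < (3 ^ f) ^ (n ^ 2)) : 66 ≤ f * n ^ 2 := by
  by_contra hcon
  have h1 : (3 ^ f) ^ (n ^ 2) ≤ 3 ^ 65 := by
    rw [← pow_mul]
    exact Nat.pow_le_pow_right (by norm_num) (by omega)
  have h2 : 3 ^ 65 ≤ 3 * Nat.factorial 29 := by norm_num [Nat.factorial]
  omega

theorem key_two {f n a b : ℕ} (hn : 3 ≤ n) (ha : 2 ^ a ∣ f) (hf : 1 ≤ f) (hb : 2 ^ b ∣ n)
    (h : 105 ≤ f * n ^ 2) : 2 * a + 2 * b + 4 ≤ f * (n - 2) := by
  have haf : 2 ^ a ≤ f := Nat.le_of_dvd hf ha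
  have hbn : 2 ^ b ≤ n := Nat.le_of_dvd (by omega) hb
  have ha1 : a + 1 ≤ f := (Nat.lt_two_pow_self).trans_le haf
  by_cases hn11 : 11 ≤ n
  · have h1 : 2 * b + 5 ≤ n - 2 := by
      rcases Nat.lt_or_ge b 3 with hb3 | hb3
      · interval_cases b
        · omega
        · omega
        · have : 12 ≤ n := by
            rw [show (2 : ℕ) ^ 2 = 4 by norm_num] at hb
            omega
          omega
      · have h5 : ∀ b : ℕ, 3 ≤ b → 2 * b + 7 ≤ 2 ^ b + 5 := by
          intro b hb
          induction b, hb using Nat.le_induction with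
          | base => norm_num
          | succ k hk ih => rw [pow_succ]; omega
        rcases Nat.lt_or_ge b 5 with hb5 | hb5
        · interval_cases b
          · norm_num at hb; omega
          · norm_num at hb; omega
        · have h6 : ∀ b : ℕ, 5 ≤ b → 2 * b + 7 ≤ 2 ^ b := by
            intro b hb
            induction b, hb using Nat.le_induction with
            | base => norm_num
            | succ k hk ih => rw [pow_succ]; omega
          have := h6 b hb5
          omega
    calc 2 * a + 2 * b + 4 ≤ f * (2 * b + 5) := by nlinarith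
      _ ≤ f * (n - 2) := Nat.mul_le_mul_left f h1
  · have hn10 : n ≤ 10 := by omega
    have hb3 : b ≤ 3 := by
      by_contra hcon
      have : 2 ^ 4 ≤ 2 ^ b := Nat.pow_le_pow_right two_pos (by omega)
      norm_num at this
      omega
    have ha4 : 12 ≤ f → 2 * a + 4 ≤ f := by
      intro hf12
      rcases Nat.lt_or_ge a 5 with h5 | h5
      · omega
      · have h6 : ∀ b : ℕ, 5 ≤ b → 2 * b + 4 ≤ 2 ^ b := by
          intro b hb
          induction b, hb using Nat.le_induction with
          | base => norm_num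
          | succ k hk ih => rw [pow_succ]; omega
        have := h6 a h5
        omega
    have ha7 : 7 ≤ f → a + 4 ≤ f := by
      intro hf7
      rcases Nat.lt_or_ge a 3 with h5 | h5
      · omega
      · have h6 : ∀ b : ℕ, 3 ≤ b → b + 4 ≤ 2 ^ b := by
          intro b hb
          induction b, hb using Nat.le_induction with
          | base => norm_num
          | succ k hk ih => rw [pow_succ]; omega
        have := h6 a h5
        omega
    interval_cases n <;> interval_cases b <;> omega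

theorem key_odd {p f n a b : ℕ} (hpp : p.Prime) (hp : 3 ≤ p) (hn : 3 ≤ n) (ha : p ^ a ∣ f) (hf : 1 ≤ f) (hb : p ^ b ∣ n)
    (h : p = 3 → 66 ≤ f * n ^ 2) : 2 * a + 2 * b + 1 ≤ f * (n - 2) := by
  have haf : p ^ a ≤ f := Nat.le_of_dvd hf ha
  have hbn : p ^ b ≤ n := Nat.le_of_dvd (by omega) hb
  have h3 : ∀ a : ℕ, 2 * a + 1 ≤ p ^ a := by
    intro a
    induction a with
    | zero => simp
    | succ k ih =>
      rw [pow_succ]
      have : p ^ k * 3 ≤ p ^ k * p := Nat.mul_le_mul_left _ hp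
      omega
  have hf1 := (h3 a).trans haf
  by_cases hb1 : 2 * b + 1 ≤ n - 2
  · calc 2 * a + 2 * b + 1 ≤ (2 * a + 1) * (2 * b + 1) := by nlinarith [Nat.zero_le (a * b)]
      _ ≤ f * (n - 2) := Nat.mul_le_mul hf1 hb1
  · -- only `n = 3`, `p = 3`
    have hn3 : n = 3 ∧ p = 3 ∧ b = 1 := by
      rcases Nat.lt_or_ge b 2 with hb2 | hb2
      · interval_cases b
        · omega
        · rw [pow_one] at hb hbn
          have hn4 : n ≤ 4 := by omega
          have : n = 3 ∨ n = 4 := by omega
          rcases this with rfl | rfl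
          · exact ⟨rfl, by omega, rfl⟩
          · exfalso
            have hp4 : p ≤ 4 := hbn
            have hp5 : p ≠ 4 := by
              rintro rfl
              exact absurd hpp (by norm_num)
            have hp3 : p = 3 := by omega
            subst hp3
            omega
      · exfalso
        have h6 : ∀ b : ℕ, 2 ≤ b → 2 * b + 3 ≤ p ^ b := by
          intro b hb
          induction b, hb using Nat.le_induction with
          | base =>
            have : 3 ^ 2 ≤ p ^ 2 := Nat.pow_le_pow_left hp 2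
            omega
          | succ k hk ih =>
            rw [pow_succ]
            have : p ^ k * 3 ≤ p ^ k * p := Nat.mul_le_mul_left _ hp
            omega
        have := h6 b hb2
        omega
    obtain ⟨rfl, rfl, rfl⟩ := hn3
    have hf8 : 8 ≤ f := by
      have := h rfl
      omega
    have : 2 * a + 3 ≤ f := by
      rcases Nat.lt_or_ge a 2 with ha2 | ha2
      · omega
      · have h6 : ∀ b : ℕ, 2 ≤ b → 2 * b + 3 ≤ 3 ^ b := by
          intro b hb
          induction b, hb using Nat.le_induction with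
          | base => norm_num
          | succ k hk ih => rw [pow_succ]; omega
        have := h6 a ha2
        omega
    omega

/-- **The numbers of the residual case** -/
theorem num_false {p f n v M a b : ℕ} (hp : p.Prime) (hf : 1 ≤ f) (hn : 3 ≤ n) (ha : p ^ a ∣ 2 * f) (hb : p ^ b ∣ n)
    (hv : f * (n - 1) ≤ v + a) (hM0 : M ≠ 0) (hM : M ∣ (p ^ f) ^ n - 1)
    (hsize : 3 * Nat.factorial 29 < (p ^ f) ^ (n ^ 2)) (hnum : Num p v M b) : False := by
  have hMle : M ≤ p ^ (f * n) - 1 := by
    have h1 : 1 < (p ^ f) ^ n := by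
      rw [← pow_mul]
      exact Nat.one_lt_pow (by positivity) hp.one_lt
    have := Nat.le_of_dvd (by omega) hM
    rwa [← pow_mul] at this
  have hpos : 1 ≤ p ^ (f * n) := Nat.one_le_pow _ _ hp.pos
  have hfn : f * (n - 1) = f * (n - 2) + f := by
    obtain ⟨m, rfl⟩ : ∃ m, n = m + 2 := ⟨n - 2, by omega⟩
    rw [Nat.add_sub_cancel, show m + 2 - 1 = m + 1 by omega]
    ring
  have hfn' : f * n = f * (n - 2) + 2 * f := by
    obtain ⟨m, rfl⟩ : ∃ m, n = m + 2 := ⟨n - 2, by omega⟩
    rw [Nat.add_sub_cancel]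
    ring
  -- the lower bound `D`
  obtain ⟨D, hD, hK1, hK2, hK3⟩ : ∃ D : ℕ, D + b ≤ v ∧ f * n < 2 * D ∧ (p = 2 → f * n + 1 < 2 * D) ∧ 10 ≤ p ^ D := by
    refine ⟨v - b, ?_⟩
    by_cases hp2 : p = 2
    · subst hp2
      have hsz := two_size hsize
      obtain ⟨a', ha', ha2⟩ : ∃ a' : ℕ, a ≤ a' + 1 ∧ 2 ^ a' ∣ f := by
        rcases Nat.eq_zero_or_pos a with h0 | h0
        · exact ⟨0, by omega, by simp⟩
        · obtain ⟨a', rfl⟩ : ∃ a', a = a' + 1 := ⟨a - 1, by omega⟩
          refine ⟨a', le_rfl, ?_⟩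
          rw [pow_succ'] at ha
          exact Nat.dvd_of_mul_dvd_mul_left two_pos ha
      have h1 := key_two hn ha2 hf hb hsz
      have h4 : 4 ≤ v - b := by omega
      refine ⟨by omega, by omega, fun _ => by omega, ?_⟩
      calc 10 ≤ 2 ^ 4 := by norm_num
        _ ≤ 2 ^ (v - b) := Nat.pow_le_pow_right two_pos h4
    · have hp3 : 3 ≤ p := by
        have := hp.two_le
        omega
      have ha2 : p ^ a ∣ f := by
        refine Nat.Coprime.dvd_of_dvd_mul_left ?_ ha
        exact Nat.Coprime.pow_left _ ((Nat.coprime_primes hp Nat.prime_two).2 hp2)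
      have hsz : p = 3 → 66 ≤ f * n ^ 2 := by
        rintro rfl
        exact three_size hsize
      have h1 := key_odd hp hp3 hn ha2 hf hb hsz
      have h2 : 2 ≤ v - b := by omega
      refine ⟨by omega, by omega, fun h => absurd h hp2, ?_⟩
      by_cases h3 : p = 3
      · have h4 : 3 ≤ v - b := by
          have hs := hsz h3
          have hfn5 : 4 ≤ f * n := by
            by_contra hcon
            have : f * n ^ 2 = (f * n) * n := by ring
            have hn4 : n ≤ 4 := by nlinarith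
            nlinarith
          omega
        rw [h3]
        calc 10 ≤ 3 ^ 3 := by norm_num
          _ ≤ 3 ^ (v - b) := Nat.pow_le_pow_right (by norm_num) h4
      · have h5 : 4 ≤ p := by omega
        calc 10 ≤ 4 ^ 2 := by norm_num
          _ ≤ p ^ 2 := Nat.pow_le_pow_left h5 2
          _ ≤ p ^ (v - b) := Nat.pow_le_pow_right hp.pos h2
  have hvb : p ^ b * p ^ D ≤ p ^ v := by
    rw [← pow_add]
    exact Nat.pow_le_pow_right hp.pos (by omega)
  have hpb : 0 < p ^ b := pow_pos hp.pos _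
  rcases hnum with ⟨B, hB1, hB4, hBv, hBd⟩ | ⟨l, hl, hl5, hlv, hld⟩ | ⟨rfl, B, hBo, hB3, hBv, hBd⟩ | h9
  · -- `L_2(p^B)`
    have h1 : D ≤ B := by omega
    have h2 : (p ^ B) ^ 2 - 1 ≤ 2 * M := Nat.le_of_dvd (by omega) hBd
    have h3 : (p ^ B) ^ 2 = p ^ (2 * B) := by rw [← pow_mul, mul_comm]
    rw [h3] at h2
    have h4 : p ^ (2 * B) < 2 * p ^ (f * n) := by omega
    have h5 : p ^ (f * n + 1) ≤ p ^ (2 * B) := Nat.pow_le_pow_right hp.pos (by omega)
    rw [pow_succ] at h5
    have h6 : p ^ (f * n) * 2 ≤ p ^ (f * n) * p := Nat.mul_le_mul_left _ hp.two_le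
    omega
  · -- `L_2(l)`, ...
    have h1 : p ^ D ≤ l + 1 := by
      apply Nat.le_of_mul_le_mul_left _ hpb
      exact hvb.trans hlv
    have h2 : l * (l - 1) ≤ 2 * p ^ (f * n) - 2 := by omega
    obtain ⟨P, hP⟩ : ∃ P, P = p ^ D := ⟨_, rfl⟩
    rw [← hP] at h1 hK3
    have hP2 : P ^ 2 = p ^ (2 * D) := by rw [hP, ← pow_mul, mul_comm]
    obtain ⟨m, rfl⟩ : ∃ m, l = m + 1 := ⟨l - 1, by omega⟩
    rw [Nat.add_sub_cancel] at h2
    by_cases hp2 : p = 2
    · subst hp2
      have h3 : 2 ^ (f * n + 2) ≤ 2 ^ (2 * D) := Nat.pow_le_pow_right two_pos (by have := hK2 rfl; omega)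
      rw [← hP2, pow_add] at h3
      norm_num at h3
      obtain ⟨k, rfl⟩ : ∃ k, P = k + 2 := ⟨P - 2, by omega⟩
      have h4 : (k + 1) * k ≤ (m + 1) * m := Nat.mul_le_mul (by omega) (by omega)
      have h7 : (m + 1) * m + 2 ≤ 2 * 2 ^ (f * n) := by omega
      have h8 : 8 ≤ k := by omega
      nlinarith
    · have hp3 : 3 ≤ p := by
        have := hp.two_le
        omega
      have h3 : p ^ (f * n + 1) ≤ p ^ (2 * D) := Nat.pow_le_pow_right hp.pos (by omega)
      rw [← hP2, pow_succ] at h3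
      have h5 : p ^ (f * n) * 3 ≤ p ^ (f * n) * p := Nat.mul_le_mul_left _ hp3
      have h6 : 3 * p ^ (f * n) ≤ P ^ 2 := by omega
      have h7 : (m + 1) * m + 2 ≤ 2 * p ^ (f * n) := by omega
      obtain ⟨k, rfl⟩ : ∃ k, P = k + 2 := ⟨P - 2, by omega⟩
      have h4 : (k + 1) * k ≤ (m + 1) * m := Nat.mul_le_mul (by omega) (by omega)
      have h8 : 8 ≤ k := by omega
      nlinarith
  · -- `Sz(2^B)`
    obtain ⟨s, hs, hsd, -, -⟩ := Cfsg.Agent.Lib.Zsigmondy.exists_primitive (a := 2) (n := 4 * B) le_rfl (by omega)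
      (by omega) (by omega)
    have h1 : s ∣ 2 ^ (4 * B) - 1 := (hsd _).2 dvd_rfl
    have h2 : ¬ s ∣ 2 ^ (2 * B) - 1 := by
      intro h
      have := Nat.le_of_dvd (by omega) ((hsd _).1 h)
      omega
    have h3 : 2 ^ (4 * B) - 1 = (2 ^ (2 * B) + 1) * (2 ^ (2 * B) - 1) := by
      have := Nat.sq_sub_sq (2 ^ (2 * B)) 1
      rw [one_pow] at this
      rw [← this, ← pow_mul]
      congr 2
      ring
    rw [h3] at h1
    have h4 : s ∣ 2 ^ (2 * B) + 1 := (hs.dvd_mul.1 h1).resolve_right h2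
    have h5 : s ∣ M := by
      refine (h4.trans ?_).trans hBd
      rw [← pow_mul, mul_comm B 2]
      exact dvd_mul_right _ _
    have h6 : s ∣ 2 ^ (f * n) - 1 := by
      rw [pow_mul]
      exact h5.trans hM
    have h7 := Nat.le_of_dvd (by positivity) ((hsd _).1 h6)
    omega
  · have h1 : p ^ D ≤ 9 := by
      apply Nat.le_of_mul_le_mul_left _ hpb
      exact hvb.trans h9
    omega

end Cfsg.Agent.H72.Rl
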