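import Cfsg.Agent.H72.Rl.Pt

/-!
# `|SL_n(q)| = (q^n - 1) |SL_n(q)_v|` and conjugacy of elements with fixed vectors (helper72, for S3691)
-/

set_option autoImplicit false
set_option linter.unusedSectionVars false

namespace Cfsg.Agent.H72.Rl

open Cfsg Cfsg.Geo Matrix Cfsg.Agent.H851.Rl
open scoped MatrixGroups

section

variable {n : ℕ} {F : Type} [Field F]

theorem exists_sl (hn : 2 ≤ n) {a b : Fin n → F} (ha : a ≠ 0) (hb : b ≠ 0) :
    ∃ g ∈ specialLinear (Fin n) F, (g : Matrix (Fin n) (Fin n) F) *ᵥ a = b := by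
  obtain ⟨g, hg⟩ := Cfsg.Agent.H119.SLVec.exists_map_one hn ha hb
  exact ⟨Matrix.SpecialLinearGroup.toGL g, mem_sl.2 g.2, hg⟩

theorem card_sl [Fintype F] (hn : 2 ≤ n) {v : Fin n → F} (hv : v ≠ 0) :
    Nat.card (specialLinear (Fin n) F) = (Fintype.card F ^ n - 1) * Nat.card (VStab v) := by
  classical
  have hfin : Finite (GL (Fin n) F) := inferInstance
  have h0 : ∀ w : {w : Fin n → F // w ≠ 0}, ∃ g : GL (Fin n) F, g ∈ specialLinear (Fin n) F ∧
      (g : Matrix (Fin n) (Fin n) F) *ᵥ v = w.1 := fun w => by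
    obtain ⟨g, h1, h2⟩ := exists_sl hn hv w.2
    exact ⟨g, h1, h2⟩
  choose g hg hgv using h0
  let f : {w : Fin n → F // w ≠ 0} × VStab v → specialLinear (Fin n) F := fun z =>
    ⟨g z.1 * z.2, Subgroup.mul_mem _ (hg _) z.2.2.1⟩
  have hf : Function.Bijective f := by
    constructor
    · rintro ⟨w, ⟨x, hx⟩⟩ ⟨w', ⟨x', hx'⟩⟩ he
      have he' : g w * x = g w' * x' := congrArg Subtype.val he
      have h1 := congrArg (fun g : GL (Fin n) F => (g : Matrix (Fin n) (Fin n) F) *ᵥ v) he'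
      simp only [mulVec_mul] at h1
      rw [hx.2, hx'.2, hgv, hgv] at h1
      have h2 : w = w' := Subtype.ext h1
      subst h2
      have h3 : x = x' := mul_left_cancel he'
      subst h3
      rfl
    · rintro ⟨x, hx⟩
      have hw : (x : Matrix (Fin n) (Fin n) F) *ᵥ v ≠ 0 := by
        intro h
        apply hv
        rw [← inv_mulVec x v, h, mulVec_zero]
      refine ⟨⟨⟨_, hw⟩, ⟨(g ⟨_, hw⟩)⁻¹ * x, Subgroup.mul_mem _ (Subgroup.inv_mem _ (hg _)) hx, ?_⟩⟩, ?_⟩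
      · rw [mulVec_mul]
        have h1 := hgv ⟨_, hw⟩
        change (g ⟨_, hw⟩ : Matrix (Fin n) (Fin n) F) *ᵥ v = (x : Matrix (Fin n) (Fin n) F) *ᵥ v at h1
        have h2 := congrArg (fun u => (((g ⟨_, hw⟩)⁻¹ : GL (Fin n) F) : Matrix (Fin n) (Fin n) F) *ᵥ u) h1
        simp only [inv_mulVec] at h2
        exact h2.symm
      · apply Subtype.ext
        show g ⟨_, hw⟩ * ((g ⟨_, hw⟩)⁻¹ * x) = x
        rw [mul_inv_cancel_left]
  rw [← Nat.card_congr (Equiv.ofBijective f hf), Nat.card_prod]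
  congr 1
  rw [Nat.card_eq_fintype_card, Fintype.card_subtype_compl, Fintype.card_subtype_eq, Fintype.card_fun, Fintype.card_fin]

variable {R : Subgroup (GL (Fin n) F)} {v : Fin n → F}

theorem pow_of_congr {x y : GL (Fin n) F} (hxv : (x : Matrix (Fin n) (Fin n) F) *ᵥ v = v)
    (hyv : (y : Matrix (Fin n) (Fin n) F) *ᵥ v = v)
    (h : ∀ w : Fin n → F, ∃ c : F, (y : Matrix (Fin n) (Fin n) F) *ᵥ w = (x : Matrix (Fin n) (Fin n) F) *ᵥ w + c • v)
    (k : ℕ) : ((y ^ k : GL (Fin n) F) : Matrix (Fin n) (Fin n) F) *ᵥ v = v ∧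
      ((x ^ k : GL (Fin n) F) : Matrix (Fin n) (Fin n) F) *ᵥ v = v ∧
      ∀ w : Fin n → F, ∃ c : F, ((y ^ k : GL (Fin n) F) : Matrix (Fin n) (Fin n) F) *ᵥ w =
        ((x ^ k : GL (Fin n) F) : Matrix (Fin n) (Fin n) F) *ᵥ w + c • v := by
  induction k with
  | zero =>
    refine ⟨by rw [pow_zero, Units.val_one, one_mulVec], by rw [pow_zero, Units.val_one, one_mulVec], fun w => ⟨0, ?_⟩⟩
    rw [pow_zero, pow_zero, zero_smul, add_zero]
  | succ k ih =>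
    obtain ⟨h1, h2, h3⟩ := ih
    refine ⟨by rw [pow_succ, mulVec_mul, hyv, h1], by rw [pow_succ, mulVec_mul, hxv, h2], fun w => ?_⟩
    obtain ⟨c, hc⟩ := h w
    obtain ⟨d, hd⟩ := h3 ((x : Matrix (Fin n) (Fin n) F) *ᵥ w)
    refine ⟨c + d, ?_⟩
    rw [pow_succ, mulVec_mul, hc, mulVec_add, mulVec_smul, h1, hd, pow_succ, mulVec_mul, add_smul]
    abel

theorem step_eq {G : Type*} [Group G] (y x : G) (i : ℕ) :
    y * (y ^ i * (x ^ i)⁻¹) * x⁻¹ = y ^ (i + 1) * (x ^ (i + 1))⁻¹ := by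
  rw [pow_succ' y, pow_succ' x, _root_.mul_inv_rev]
  simp only [mul_assoc]

/-- **conjugacy**: elements of prime order `s ≠ p` with a fixed vector are conjugate in `SL_n(F)` to elements of `R` -/
theorem conj_of (hn : 2 ≤ n) (hR : Pt R v) (hU : NoU R v) {x : GL (Fin n) F} (hx : x ∈ specialLinear (Fin n) F)
    {s : ℕ} (hs : (s : F) ≠ 0) (hxs : x ^ s = 1) {w : Fin n → F} (hw : w ≠ 0)
    (hxw : (x : Matrix (Fin n) (Fin n) F) *ᵥ w = w) :
    ∃ y ∈ R, ∃ t ∈ specialLinear (Fin n) F, t * x * t⁻¹ = y := by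
  obtain ⟨g, hg, hgw⟩ := exists_sl hn hw hR.ne
  set x' : GL (Fin n) F := g * x * g⁻¹ with hx'
  have hgv : ((g⁻¹ : GL (Fin n) F) : Matrix (Fin n) (Fin n) F) *ᵥ v = w := by rw [← hgw, inv_mulVec]
  have hx'v : (x' : Matrix (Fin n) (Fin n) F) *ᵥ v = v := by
    rw [hx', mulVec_mul, mulVec_mul, hgv, hxw, hgw]
  have hx'S : x' ∈ VStab v := ⟨Subgroup.mul_mem _ (Subgroup.mul_mem _ hg hx) (Subgroup.inv_mem _ hg), hx'v⟩
  have hx's : x' ^ s = 1 := by
    rw [hx', conj_pow, hxs, mul_one, mul_inv_cancel]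
  obtain ⟨y, hy, hyx⟩ := exists_lift hR hx'S
  have hyv : (y : Matrix (Fin n) (Fin n) F) *ᵥ v = v := hy.2.2
  have hys : y ^ s = 1 := by
    refine hU _ (R.pow_mem hy.1 s) fun u => ?_
    obtain ⟨c, hc⟩ := (pow_of_congr hx'v hyv hyx s).2.2 u
    refine ⟨c, ?_⟩
    rw [hc, hx's, Units.val_one, one_mulVec]
  -- averaging
  let M : ℕ → Matrix (Fin n) (Fin n) F := fun i => ((y ^ i * (x' ^ i)⁻¹ : GL (Fin n) F) : Matrix (Fin n) (Fin n) F)
  have hMv : ∀ i, ∀ u : Fin n → F, ∃ c : F, M i *ᵥ u = u + c • v := by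
    intro i u
    obtain ⟨c, hc⟩ := (pow_of_congr hx'v hyv hyx i).2.2 ((((x' ^ i)⁻¹ : GL (Fin n) F) : Matrix (Fin n) (Fin n) F) *ᵥ u)
    refine ⟨c, ?_⟩
    show ((y ^ i * (x' ^ i)⁻¹ : GL (Fin n) F) : Matrix (Fin n) (Fin n) F) *ᵥ u = _
    rw [mulVec_mul, hc, mulVec_inv]
  have hMvv : ∀ i, M i *ᵥ v = v := by
    intro i
    show ((y ^ i * (x' ^ i)⁻¹ : GL (Fin n) F) : Matrix (Fin n) (Fin n) F) *ᵥ v = _
    rw [mulVec_mul]
    have h1 : (((x' ^ i)⁻¹ : GL (Fin n) F) : Matrix (Fin n) (Fin n) F) *ᵥ v = v := by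
      conv_lhs => rw [← (pow_of_congr hx'v hyv hyx i).2.1]
      exact inv_mulVec _ _
    rw [h1, (pow_of_congr hx'v hyv hyx i).1]
  have hMs : ∀ i, (y : Matrix (Fin n) (Fin n) F) * M i * ((x'⁻¹ : GL (Fin n) F) : Matrix (Fin n) (Fin n) F) = M (i + 1) := by
    intro i
    show (y : Matrix (Fin n) (Fin n) F) * ((y ^ i * (x' ^ i)⁻¹ : GL (Fin n) F) : Matrix (Fin n) (Fin n) F) * _ =
      ((y ^ (i + 1) * (x' ^ (i + 1))⁻¹ : GL (Fin n) F) : Matrix (Fin n) (Fin n) F)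
    rw [← Units.val_mul, ← Units.val_mul, step_eq]
  let N : Matrix (Fin n) (Fin n) F := ∑ i ∈ Finset.range s, M i
  have hN : (y : Matrix (Fin n) (Fin n) F) * N * ((x'⁻¹ : GL (Fin n) F) : Matrix (Fin n) (Fin n) F) = N := by
    show _ * (∑ i ∈ Finset.range s, M i) * _ = ∑ i ∈ Finset.range s, M i
    rw [Finset.mul_sum, Finset.sum_mul]
    simp only [hMs]
    have h6 := Finset.sum_range_succ M s
    have h7 := Finset.sum_range_succ' M s
    have h8 : M s = M 0 := by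
      show ((y ^ s * (x' ^ s)⁻¹ : GL (Fin n) F) : Matrix (Fin n) (Fin n) F) =
        ((y ^ 0 * (x' ^ 0)⁻¹ : GL (Fin n) F) : Matrix (Fin n) (Fin n) F)
      rw [hys, hx's, pow_zero, pow_zero]
    rw [h6, h8] at h7
    exact (add_right_cancel h7).symm
  have hNv : ∀ u : Fin n → F, ∃ c : F, ((s : F)⁻¹ • N) *ᵥ u = u + c • v := by
    intro u
    have h1 : ∀ i, ∃ c : F, M i *ᵥ u = u + c • v := fun i => hMv i u
    choose c hc using h1
    refine ⟨(s : F)⁻¹ * ∑ i ∈ Finset.range s, c i, ?_⟩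
    have h2 : N *ᵥ u = (s : F) • u + (∑ i ∈ Finset.range s, c i) • v := by
      show (∑ i ∈ Finset.range s, M i) *ᵥ u = _
      rw [Matrix.sum_mulVec, Finset.sum_congr rfl fun i _ => hc i, Finset.sum_add_distrib, Finset.sum_const,
        Finset.card_range, ← Finset.sum_smul, Nat.cast_smul_eq_nsmul]
    rw [smul_mulVec, h2, smul_add, smul_smul, smul_smul, inv_mul_cancel₀ hs, one_smul]
  obtain ⟨φ, hφ, hd⟩ := exists_fun hR.ne hNv
  have hNvv : ((s : F)⁻¹ • N) *ᵥ v = v := by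
    have h2 : N *ᵥ v = (s : F) • v := by
      show (∑ i ∈ Finset.range s, M i) *ᵥ v = _
      rw [Matrix.sum_mulVec, Finset.sum_congr rfl fun i _ => hMvv i, Finset.sum_const, Finset.card_range,
        Nat.cast_smul_eq_nsmul]
    rw [smul_mulVec, h2, smul_smul, inv_mul_cancel₀ hs, one_smul]
  have hφv : φ v = 0 := by
    have h1 := hφ v
    rw [hNvv] at h1
    have h2 : φ v • v = 0 := left_eq_add.1 h1
    exact (smul_eq_zero.1 h2).resolve_right hR.ne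
  rw [hφv, add_zero] at hd
  let t : GL (Fin n) F := Matrix.GeneralLinearGroup.mkOfDetNeZero ((s : F)⁻¹ • N) (by rw [hd]; exact one_ne_zero)
  have ht : (t : Matrix (Fin n) (Fin n) F) = (s : F)⁻¹ • N := rfl
  have hconj : t * x' * t⁻¹ = y := by
    rw [mul_inv_eq_iff_eq_mul]
    have h1 : y * t * x'⁻¹ = t := by
      apply Units.ext
      rw [Units.val_mul, Units.val_mul, ht, Matrix.mul_smul, Matrix.smul_mul, hN]
    rw [mul_inv_eq_iff_eq_mul] at h1
    exact h1.symm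
  refine ⟨y, hy.1, t * g, Subgroup.mul_mem _ (mem_sl.2 (by rw [ht, hd])) hg, ?_⟩
  rw [← hconj, hx', _root_.mul_inv_rev]
  simp only [mul_assoc]

end

end Cfsg.Agent.H72.Rl
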