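import Cfsg.Agent.H851.Rl.PDefs
import Cfsg.Agent.H119.SLVec

/-!
# Subgroups of `SL_n(F)` fixing a point `⟨v⟩`, inducing at least `SL` on `V/⟨v⟩`, without transvections of centre `v`
(helper72, for S3691)
-/

set_option autoImplicit false
set_option linter.unusedSectionVars false

namespace Cfsg.Agent.H72.Rl

open Cfsg Cfsg.Geo Matrix Cfsg.Agent.H851.Rl
open scoped MatrixGroups

section

variable {n : ℕ} {F : Type} [Field F]

theorem mem_sl {g : GL (Fin n) F} : g ∈ specialLinear (Fin n) F ↔ (g : Matrix (Fin n) (Fin n) F).det = 1 := by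
  show g ∈ (Matrix.GeneralLinearGroup.det : GL (Fin n) F →* Fˣ).ker ↔ _
  rw [MonoidHom.mem_ker, Units.ext_iff]
  rfl

theorem mulVec_mul (a b : GL (Fin n) F) (w : Fin n → F) :
    ((a * b : GL (Fin n) F) : Matrix (Fin n) (Fin n) F) *ᵥ w =
      (a : Matrix (Fin n) (Fin n) F) *ᵥ ((b : Matrix (Fin n) (Fin n) F) *ᵥ w) := by
  rw [Units.val_mul, mulVec_mulVec]

theorem inv_mulVec (a : GL (Fin n) F) (w : Fin n → F) :
    ((a⁻¹ : GL (Fin n) F) : Matrix (Fin n) (Fin n) F) *ᵥ ((a : Matrix (Fin n) (Fin n) F) *ᵥ w) = w := by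
  rw [← mulVec_mul, inv_mul_cancel, Units.val_one, one_mulVec]

theorem mulVec_inv (a : GL (Fin n) F) (w : Fin n → F) :
    (a : Matrix (Fin n) (Fin n) F) *ᵥ (((a⁻¹ : GL (Fin n) F) : Matrix (Fin n) (Fin n) F) *ᵥ w) = w := by
  rw [← mulVec_mul, mul_inv_cancel, Units.val_one, one_mulVec]

theorem gl_ext {a b : GL (Fin n) F} (h : ∀ w, (a : Matrix (Fin n) (Fin n) F) *ᵥ w = (b : Matrix (Fin n) (Fin n) F) *ᵥ w) :
    a = b := by
  apply Units.ext
  exact Matrix.ext_of_mulVec_single fun i => h _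

/-- matrices congruent to one modulo `v` -/
theorem exists_fun {A : Matrix (Fin n) (Fin n) F} {v : Fin n → F} (hv : v ≠ 0)
    (h : ∀ w : Fin n → F, ∃ c : F, A *ᵥ w = w + c • v) :
    ∃ φ : Module.Dual F (Fin n → F), (∀ w, A *ᵥ w = w + φ w • v) ∧ A.det = 1 + φ v := by
  choose c hc using h
  have huniq : ∀ a b : F, a • v = b • v → a = b := fun a b hab => smul_left_injective F hv hab
  let φ : Module.Dual F (Fin n → F) :=
    { toFun := c
      map_add' := by
        intro x y
        apply huniq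
        have h1 := hc (x + y)
        rw [mulVec_add, hc, hc] at h1
        rw [add_smul]
        have h2 : x + c x • v + (y + c y • v) = (x + y) + (c x • v + c y • v) := by abel
        rw [h2] at h1
        exact (add_left_cancel h1).symm
      map_smul' := by
        intro r x
        apply huniq
        have h1 := hc (r • x)
        rw [mulVec_smul, hc, smul_add] at h1
        rw [RingHom.id_apply, smul_eq_mul, mul_smul]
        exact (add_left_cancel h1).symm }
  refine ⟨φ, hc, ?_⟩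
  have h1 : A = LinearMap.toMatrix' (LinearMap.transvection φ v) := by
    apply Matrix.ext_of_mulVec_single
    intro i
    rw [LinearMap.toMatrix'_mulVec]
    exact hc _
  rw [h1, LinearMap.det_toMatrix', LinearMap.transvection.det]

/-- the transvection `w ↦ w + φ(w) v` -/
noncomputable def tv (φ : Module.Dual F (Fin n → F)) (v : Fin n → F) (h : φ v = 0) : GL (Fin n) F :=
  Matrix.GeneralLinearGroup.mkOfDetNeZero (LinearMap.toMatrix' (LinearMap.transvection φ v)) (by
    rw [LinearMap.det_toMatrix', LinearMap.transvection.det, h, add_zero]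
    exact one_ne_zero)

theorem tv_mulVec (φ : Module.Dual F (Fin n → F)) (v : Fin n → F) (h : φ v = 0) (w : Fin n → F) :
    (tv φ v h : Matrix (Fin n) (Fin n) F) *ᵥ w = w + φ w • v := by
  change (LinearMap.toMatrix' (LinearMap.transvection φ v)) *ᵥ w = _
  rw [LinearMap.toMatrix'_mulVec]
  rfl

theorem tv_det (φ : Module.Dual F (Fin n → F)) (v : Fin n → F) (h : φ v = 0) :
    (tv φ v h : Matrix (Fin n) (Fin n) F).det = 1 := by
  change (LinearMap.toMatrix' (LinearMap.transvection φ v)).det = 1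
  rw [LinearMap.det_toMatrix', LinearMap.transvection.det, h, add_zero]

variable {R : Subgroup (GL (Fin n) F)} {v : Fin n → F}

/-- `y ∈ R` congruent modulo `v` to `x` fixing `v` fixes `v` -/
theorem fix_of (h : Pt R v) {x y : GL (Fin n) F} (hx : x ∈ VStab v) (hy : y ∈ specialLinear (Fin n) F)
    (hxy : ∀ w : Fin n → F, ∃ c : F, (y : Matrix (Fin n) (Fin n) F) *ᵥ w = (x : Matrix (Fin n) (Fin n) F) *ᵥ w + c • v) :
    (y : Matrix (Fin n) (Fin n) F) *ᵥ v = v := by
  have hxi : ((x⁻¹ : GL (Fin n) F) : Matrix (Fin n) (Fin n) F) *ᵥ v = v := by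
    conv_lhs => rw [← hx.2]
    exact inv_mulVec x v
  have h1 : ∀ w : Fin n → F, ∃ c : F, ((x⁻¹ * y : GL (Fin n) F) : Matrix (Fin n) (Fin n) F) *ᵥ w = w + c • v := by
    intro w
    obtain ⟨c, hc⟩ := hxy w
    refine ⟨c, ?_⟩
    rw [mulVec_mul, hc, mulVec_add, inv_mulVec, mulVec_smul, hxi]
  obtain ⟨φ, hφ, hd⟩ := exists_fun h.ne h1
  have h2 : ((x⁻¹ * y : GL (Fin n) F) : Matrix (Fin n) (Fin n) F).det = 1 :=
    mem_sl.1 (Subgroup.mul_mem _ (Subgroup.inv_mem _ hx.1) hy)
  have h3 : φ v = 0 := by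
    rw [h2] at hd
    exact (left_eq_add.1 hd)
  have h4 := hφ v
  rw [h3, zero_smul, add_zero, mulVec_mul] at h4
  have h5 := congrArg (fun w => (x : Matrix (Fin n) (Fin n) F) *ᵥ w) h4
  simp only [mulVec_inv] at h5
  rw [h5]
  exact hx.2

/-- the elements of `R` fixing `v` -/
def RZ (R : Subgroup (GL (Fin n) F)) (v : Fin n → F) : Subgroup (GL (Fin n) F) := R ⊓ VStab v

theorem exists_lift (h : Pt R v) {x : GL (Fin n) F} (hx : x ∈ VStab v) : ∃ y ∈ RZ R v, ∀ w : Fin n → F, ∃ c : F,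
    (y : Matrix (Fin n) (Fin n) F) *ᵥ w = (x : Matrix (Fin n) (Fin n) F) *ᵥ w + c • v := by
  obtain ⟨y, hy, hyx⟩ := h.top x hx
  exact ⟨y, ⟨hy, h.le hy, fix_of h hx (h.le hy) hyx⟩, hyx⟩

section finite

variable [Fintype F]

theorem card_dual (hv : v ≠ 0) : Nat.card {φ : Module.Dual F (Fin n → F) // φ v = 0} = Fintype.card F ^ (n - 1) := by
  let ev : Module.Dual F (Fin n → F) →ₗ[F] F := Module.Dual.eval F (Fin n → F) v
  have h1 : Nat.card {φ : Module.Dual F (Fin n → F) // φ v = 0} = Nat.card (LinearMap.ker ev) := rfl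
  have h2 : Function.Surjective ev := by
    rw [← LinearMap.range_eq_top]
    have h3 : ev ≠ 0 := by
      intro h0
      apply hv
      exact (Module.forall_dual_apply_eq_zero_iff F v).1 fun φ => LinearMap.congr_fun h0 φ
    obtain ⟨φ, hφ⟩ : ∃ φ, ev φ ≠ 0 := by
      by_contra hcon
      push Not at hcon
      exact h3 (LinearMap.ext hcon)
    rw [LinearMap.range_eq_top]
    intro c
    refine ⟨(c / ev φ) • φ, ?_⟩
    rw [map_smul, smul_eq_mul, div_mul_cancel₀ _ hφ]
  have h3 := ev.finrank_range_add_finrank_ker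
  rw [LinearMap.range_eq_top.2 h2, finrank_top, Module.finrank_self, Subspace.dual_finrank_eq, Module.finrank_fin_fun] at h3
  rw [h1, Module.natCard_eq_pow_finrank (K := F), Nat.card_eq_fintype_card]
  congr 1
  omega

theorem card_vstab (h : Pt R v) (hU : NoU R v) :
    Nat.card (VStab v) = Fintype.card F ^ (n - 1) * Nat.card (RZ R v) := by
  have hfin : Finite (GL (Fin n) F) := inferInstance
  let f : {φ : Module.Dual F (Fin n → F) // φ v = 0} × RZ R v → VStab v := fun z =>
    ⟨tv z.1.1 v z.1.2 * z.2, by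
      refine ⟨Subgroup.mul_mem _ (mem_sl.2 (tv_det _ _ _)) z.2.2.2.1, ?_⟩
      rw [mulVec_mul, z.2.2.2.2, tv_mulVec, z.1.2, zero_smul, add_zero]⟩
  have hf : Function.Bijective f := by
    constructor
    · rintro ⟨⟨φ, hφ⟩, ⟨y, hy⟩⟩ ⟨⟨φ', hφ'⟩, ⟨y', hy'⟩⟩ he
      have he' : tv φ v hφ * y = tv φ' v hφ' * y' := congrArg Subtype.val he
      have h1 : ∀ w, ∃ c : F, (y : Matrix (Fin n) (Fin n) F) *ᵥ w = (y' : Matrix (Fin n) (Fin n) F) *ᵥ w + c • v := by
        intro w
        have h2 := congrArg (fun g : GL (Fin n) F => (g : Matrix (Fin n) (Fin n) F) *ᵥ w) he'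
        simp only [mulVec_mul, tv_mulVec] at h2
        refine ⟨φ' ((y' : Matrix (Fin n) (Fin n) F) *ᵥ w) - φ ((y : Matrix (Fin n) (Fin n) F) *ᵥ w), ?_⟩
        rw [sub_smul]
        rw [← sub_eq_zero] at h2 ⊢
        rw [← h2]
        abel
      have h3 : y * y'⁻¹ = 1 := by
        refine hU _ (R.mul_mem hy.1 (R.inv_mem hy'.1)) fun w => ?_
        obtain ⟨c, hc⟩ := h1 (((y'⁻¹ : GL (Fin n) F) : Matrix (Fin n) (Fin n) F) *ᵥ w)
        refine ⟨c, ?_⟩
        rw [mulVec_mul, hc, mulVec_inv]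
      have h4 : y = y' := mul_inv_eq_one.1 h3
      subst h4
      have h5 : tv φ v hφ = tv φ' v hφ' := mul_right_cancel he'
      have h6 : φ = φ' := by
        refine LinearMap.ext fun w => ?_
        have h7 := congrArg (fun g : GL (Fin n) F => (g : Matrix (Fin n) (Fin n) F) *ᵥ w) h5
        simp only [tv_mulVec] at h7
        exact smul_left_injective F h.ne (add_left_cancel h7)
      subst h6
      rfl
    · rintro ⟨x, hx⟩
      obtain ⟨y, hy, hyx⟩ := exists_lift h hx
      have h1 : ∀ w : Fin n → F, ∃ c : F, ((x * y⁻¹ : GL (Fin n) F) : Matrix (Fin n) (Fin n) F) *ᵥ w = w + c • v := by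
        intro w
        obtain ⟨c, hc⟩ := hyx (((y⁻¹ : GL (Fin n) F) : Matrix (Fin n) (Fin n) F) *ᵥ w)
        rw [mulVec_inv] at hc
        refine ⟨-c, ?_⟩
        rw [mulVec_mul, neg_smul]
        rw [← sub_eq_zero] at hc ⊢
        rw [← neg_eq_zero, ← hc]
        abel
      obtain ⟨φ, hφ, hd⟩ := exists_fun h.ne h1
      have h2 : ((x * y⁻¹ : GL (Fin n) F) : Matrix (Fin n) (Fin n) F).det = 1 :=
        mem_sl.1 (Subgroup.mul_mem _ hx.1 (Subgroup.inv_mem _ hy.2.1))
      have h3 : φ v = 0 := by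
        rw [h2] at hd
        exact (left_eq_add.1 hd)
      refine ⟨⟨⟨φ, h3⟩, ⟨y, hy⟩⟩, Subtype.ext ?_⟩
      show tv φ v h3 * y = x
      have h4 : tv φ v h3 = x * y⁻¹ := gl_ext fun w => by rw [tv_mulVec, hφ]
      rw [h4, inv_mul_cancel_right]
  rw [← Nat.card_congr (Equiv.ofBijective f hf), Nat.card_prod, card_dual h.ne]

/-- `|R| = |R_v| k` with `k ∣ q - 1` -/
theorem card_eq (h : Pt R v) : ∃ k : ℕ, k ∣ Fintype.card F - 1 ∧ Nat.card R = Nat.card (RZ R v) * k := by
  have hfin : Finite (GL (Fin n) F) := inferInstance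
  choose c hc using h.fix
  have huniq : ∀ a b : F, a • v = b • v → a = b := fun a b hab => smul_left_injective F h.ne hab
  let δ0 : R →* F :=
    { toFun := fun x => c x.1 x.2
      map_one' := by
        apply huniq
        rw [← hc, one_smul]
        show ((1 : GL (Fin n) F) : Matrix (Fin n) (Fin n) F) *ᵥ v = v
        rw [Units.val_one, one_mulVec]
      map_mul' := by
        rintro ⟨x, hx⟩ ⟨y, hy⟩
        apply huniq
        rw [← hc]
        show ((x * y : GL (Fin n) F) : Matrix (Fin n) (Fin n) F) *ᵥ v = _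
        rw [mulVec_mul, hc y hy, mulVec_smul, hc x hx, smul_smul, mul_comm] }
  let δ : R →* Fˣ := δ0.toHomUnits
  have hker : ∀ x : R, x ∈ δ.ker ↔ (x : GL (Fin n) F) ∈ RZ R v := by
    intro x
    rw [MonoidHom.mem_ker, Units.ext_iff]
    show c x.1 x.2 = 1 ↔ _
    constructor
    · intro h1
      refine ⟨x.2, h.le x.2, ?_⟩
      rw [hc _ x.2, h1, one_smul]
    · intro h1
      apply huniq
      rw [← hc, one_smul]
      exact h1.2.2
  have h1 : Nat.card δ.ker = Nat.card (RZ R v) := by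
    refine Nat.card_congr ?_
    exact
      { toFun := fun x => ⟨x.1.1, (hker x.1).1 x.2⟩
        invFun := fun x => ⟨⟨x.1, x.2.1⟩, (hker _).2 x.2⟩
        left_inv := fun x => rfl
        right_inv := fun x => rfl }
  refine ⟨Nat.card δ.range, ?_, ?_⟩
  · rw [← Nat.card_eq_fintype_card, ← Nat.card_units]
    exact Subgroup.card_subgroup_dvd_card _
  · rw [← h1, ← Subgroup.index_ker, Subgroup.card_mul_index]

end finite

end

end Cfsg.Agent.H72.Rl
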